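import Cfsg.Agent.Lib.AltEightNine.Build.Side
import Cfsg.Agent.Lib.AltEightNine.Core.Base
import Cfsg.Agent.Lib.AltEightNine.Pres.Main

/-!
# The embedded alternating group of degree eight in the alternating case
-/

set_option autoImplicit false
set_option maxRecDepth 100000
set_option linter.unusedSectionVars false
set_option linter.style.haveILetI false

namespace Cfsg.Lib.AltEightNine

open Subgroup Cfsg.Lib.CosetEnum

/-- The involutions fused to the centre other than itself, listed. -/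
def sigList : List (Fin 192) :=
  [1, 3, 5, 60, 65, 66, 72, 73, 78, 87, 109, 120, 123, 126, 132, 137, 138, 156, 159, 162, 173, 180, 181, 186]

theorem sigList_mem : ∀ i : Fin 192, sigB i = true → i ≠ bZ → i ∈ sigList := by decide +kernel

set_option synthInstance.maxSize 4000 in
set_option synthInstance.maxHeartbeats 200000 in
theorem step_table : ∀ a ∈ sigList, ∀ b ∈ sigList, bCm a b = true → a ≠ b →
    ∀ c ∈ sigList, bCm a c = true → bCm b c = true → c ≠ a → c ≠ b →
    ∀ v ∈ sigList, bCm v b = true → bMul (bMul (bMul v a) v) a = bZ → bMul (bMul v c) v = bMul c b →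
    ∀ w ∈ sigList, bCm w a = true → bMul (bMul (bMul w b) w) b = bZ → bMul (bMul w c) w = bMul c a →
      bMul (bMul (bMul v w) v) w = 0 ∨ bMul (bMul (bMul v w) v) w = bZ := by
  decide +kernel

/-- The table indices of the four generators in the centraliser. -/
def gL (g : ℕ) : Fin 192 := [60, 1, 132, 5].getD g 0

/-- The value of a word in the four generators. -/
def evalL : List ℕ → Fin 192
  | [] => 0
  | g :: w => bMul (evalL w) (gL g)

theorem glue_consts : sigB 180 = true ∧ sigB 72 = true ∧ sigB 1 = true ∧ (180 : Fin 192) ≠ bZ ∧ (72 : Fin 192) ≠ bZ ∧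
    (180 : Fin 192) ≠ 72 ∧ bCm 180 1 = true ∧ bCm 72 1 = true ∧ bCm 180 72 = true ∧ bZ ≠ (1 : Fin 192) ∧
    (1 : Fin 192) ≠ 0 ∧ (180 : Fin 192) ≠ 0 ∧ (72 : Fin 192) ≠ 0 := by decide +kernel

theorem glue_imgs : Pres.img8 0 = z8 ∧ wordVal Pres.img8 [0, 1, 2, 1, 0, 1, 2, 1, 3] = w8 ∧
    bCls (evalL [0, 1, 2, 1, 0, 1, 2, 1, 3]) = 6 ∧ evalL [0, 1, 0, 1, 2, 0, 1, 0, 1, 2] = bZ ∧
    (wordVal Pres.img8 [0, 1, 0, 1, 2, 0, 1, 0, 1, 2] * wordVal Pres.img8 [0, 1, 0, 1, 2, 0, 1, 0, 1, 2] = 1) ∧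
    (∀ p : Fin 8, (wordVal Pres.img8 [0, 1, 0, 1, 2, 0, 1, 0, 1, 2]).1 p ≠ p) := by decide +kernel

universe u

namespace TabSetup

variable {G : Type u} [Group G] [Finite G] {S : TabSetup G}

theorem step (h : S.Two) {v' v : G} (hv : S.Side v)
    (hd1 : v' * S.f 1 = S.f 1 * v') (hd2 : v' * v' = 1) (hdc : IsConj S.s v')
    (hd72 : v' * S.f 72 = S.f 72 * v') (hds : v' * S.s * v'⁻¹ = S.s * S.f 72)
    (hd180 : v' * S.f 180 * v' = S.f 180 * S.f 1) :
    v' * v * (v' * v) = 1 ∨ v' * v * (v' * v) = S.f 1 := by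
  obtain ⟨s180, s72, s1, n180, n72, n18072, c1801, c721, c18072, nz1, n10, n1800, n720⟩ := glue_consts
  have hf1c : IsConj S.s (S.f 1) := (h.sig_iff (sig_ne 1 s1).1 n10).1 s1
  obtain ⟨k, hk⟩ := isConj_iff.1 hf1c
  set g := k⁻¹ with hgk
  have hg : g * S.f 1 * g⁻¹ = S.s := by rw [← hk, hgk]; group
  have mulg : ∀ x y : G, g * x * g⁻¹ * (g * y * g⁻¹) = g * (x * y) * g⁻¹ := fun x y => by group
  have injg : ∀ x y : G, g * x * g⁻¹ = g * y * g⁻¹ → x = y := fun x y e =>
    mul_left_cancel (mul_right_cancel e)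
  have img : ∀ x : G, x * S.f 1 = S.f 1 * x → x * x = 1 → IsConj S.s x → x ≠ S.f 1 →
      ∃ i ∈ sigList, S.f i = g * x * g⁻¹ := by
    intro x hx h2 hc hne
    obtain ⟨i, hi⟩ := (S.mem_iff (g * x * g⁻¹)).1 (by rw [← hg, conj_comm]; exact hx)
    have hi2 : bMul i i = 0 := S.inj (by rw [S.fmul, hi, mulg, h2, mul_one, mul_inv_cancel, S.fone])
    have hi0 : i ≠ 0 := fun e => by
      rw [e, S.fone, eq_comm, conj_eq_one_iff] at hi
      rw [hi] at hc
      exact S.s_ne (isConj_one_left.1 hc)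
    have hiz : i ≠ bZ := fun e => by
      rw [e, S.f_z, ← hg] at hi
      exact hne (injg _ _ hi).symm
    exact ⟨i, sigList_mem i ((h.sig_iff hi2 hi0).2 (by rw [hi, isConj_conj]; exact hc)) hiz, hi⟩
  have sig' : ∀ j : Fin 192, sigB j = true → IsConj S.s (S.f j) := fun j hj =>
    (h.sig_iff (sig_ne j hj).1 (sig_ne j hj).2).1 hj
  have sq' : ∀ j : Fin 192, sigB j = true → S.f j * S.f j = 1 := fun j hj => by
    rw [← S.fmul, (sig_ne j hj).1, S.fone]
  have nf : ∀ j : Fin 192, bCm j 1 = true → sigB j = true → j ≠ 1 →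
      ∃ i ∈ sigList, S.f i = g * S.f j * g⁻¹ := fun j hc hj hne =>
    img _ (S.cm_iff.2 hc) (sq' j hj) (sig' j hj) (fun e => hne (S.inj e))
  obtain ⟨a, ham, ha⟩ := nf 180 c1801 s180 (by decide)
  obtain ⟨b, hbm, hb⟩ := nf 72 c721 s72 (by decide)
  obtain ⟨c, hcm, hc⟩ := img S.s (S.comm_s 1).symm S.s_sq (IsConj.refl _)
    (fun e => nz1 (S.inj (by rw [S.f_z, e])))
  have hne1 : ∀ {x : G} {j : Fin 192}, sigB j = true → x * S.s * x⁻¹ = S.s * S.f j → x ≠ S.f 1 := by
    intro x j hj e hx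
    rw [hx, S.comm_s, mul_inv_cancel_right, left_eq_mul, ← S.fone] at e
    exact (sig_ne j hj).2 (S.inj e)
  obtain ⟨i, him, hi⟩ := img v' hd1 hd2 hdc (hne1 s72 hds)
  obtain ⟨w, hwm, hw⟩ := img v hv.c2 hv.sq hv.conj (hne1 s180 hv.vs)
  have cm' : ∀ {p q : Fin 192} {x y : G}, S.f p = g * x * g⁻¹ → S.f q = g * y * g⁻¹ → x * y = y * x →
      bCm p q = true := fun {p q x y} ep eq e => S.cm_iff.1 (by rw [ep, eq, mulg, mulg, e])
  have ne' : ∀ {p q : Fin 192} {x y : G}, S.f p = g * x * g⁻¹ → S.f q = g * y * g⁻¹ → x ≠ y → p ≠ q :=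
    fun {p q x y} ep eq hne e => hne (injg _ _ (by rw [← ep, ← eq, e]))
  have four : ∀ {p q r : Fin 192} {x y z : G}, S.f p = g * x * g⁻¹ → S.f q = g * y * g⁻¹ → S.f r = g * z * g⁻¹ →
      x * y * x * y = z → bMul (bMul (bMul p q) p) q = r := fun {p q r x y z} ep eq er e => S.inj (by
    rw [S.fmul, S.fmul, S.fmul, ep, eq, er, mulg, mulg, mulg, e])
  have three : ∀ {p q r : Fin 192} {x y z : G}, S.f p = g * x * g⁻¹ → S.f q = g * y * g⁻¹ → S.f r = g * z * g⁻¹ →
      x * y * x = y * z → bMul (bMul p q) p = bMul q r := fun {p q r x y z} ep eq er e => S.inj (by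
    rw [S.fmul, S.fmul, S.fmul, ep, eq, er, mulg, mulg, mulg, e])
  have z' : S.f bZ = g * S.f 1 * g⁻¹ := by rw [hg, S.f_z]
  have cyc : ∀ {x : G} {j : Fin 192}, sigB j = true → bCm j 1 = true → x * S.f j * x = S.f j * S.f 1 →
      x * S.f j * x * S.f j = S.f 1 := fun {x j} hj hc e => by
    rw [e, mul_assoc, ← S.cm_iff.2 hc, ← mul_assoc, sq' j hj, one_mul]
  have e1 := step_table a ham b hbm (cm' ha hb (S.cm_iff.2 c18072)) (ne' ha hb fun e => n18072 (S.inj e))
    c hcm (cm' ha hc (S.comm_s 180)) (cm' hb hc (S.comm_s 72))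
    (ne' hc ha fun e => n180 (S.inj (by rw [S.f_z]; exact e.symm)))
    (ne' hc hb fun e => n72 (S.inj (by rw [S.f_z]; exact e.symm)))
    i him (cm' hi hb hd72) (four hi ha z' (cyc s180 c1801 hd180))
    (three hi hc hb (by
      have := hds; rw [inv_eq_of_mul_eq_one_left hd2] at this; exact this))
    w hwm (cm' hw ha hv.c12) (four hw hb z' (cyc s72 c721 hv.v23))
    (three hw hc ha (by
      have := hv.vs; rw [inv_eq_of_mul_eq_one_left hv.sq] at this; exact this))
  have e2 : S.f (bMul (bMul (bMul i w) i) w) = g * (v' * v * (v' * v)) * g⁻¹ := by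
    rw [S.fmul, S.fmul, S.fmul, hi, hw]; group
  rcases e1 with e1 | e1 <;> rw [e1] at e2
  · exact Or.inl (injg _ _ (by rw [← e2, S.fone]; group))
  · exact Or.inr (injg _ _ (by rw [← e2, z']))

theorem Side.conj_s {v : G} (hv : S.Side v) : S.Side (S.s * v * S.s) := by
  have ss := S.s_sq
  have si : S.s⁻¹ = S.s := inv_eq_of_mul_eq_one_left ss
  have cs : ∀ i, S.s * S.f i = S.f i * S.s := fun i => (S.comm_s i).symm
  have hvi : v⁻¹ = v := inv_eq_of_mul_eq_one_left hv.sq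
  have sw : ∀ x : G, S.s * x * S.s = S.s * x * S.s⁻¹ := fun x => by rw [si]
  have cc : ∀ i, v * S.f i = S.f i * v → S.s * v * S.s * S.f i = S.f i * (S.s * v * S.s) := by
    intro i e
    rw [sw]
    calc S.s * v * S.s⁻¹ * S.f i = S.s * v * (S.s⁻¹ * S.f i) := by group
      _ = S.s * (v * S.f i) * S.s⁻¹ := by rw [si, cs]; group
      _ = (S.s * S.f i) * v * S.s⁻¹ := by rw [e]; group
      _ = S.f i * (S.s * v * S.s⁻¹) := by rw [cs]; group
  have pw : ∀ i n, (S.f i * v) ^ n = 1 → (S.f i * (S.s * v * S.s)) ^ n = 1 := by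
    intro i n e
    rw [sw, show S.f i * (S.s * v * S.s⁻¹) = S.s * (S.f i * v) * S.s⁻¹ by
      rw [← mul_assoc S.s, cs]; group, conj_pow, e, mul_one, mul_inv_cancel]
  refine ⟨?_, ?_, cc 60 hv.c1, cc 1 hv.c2, cc 180 hv.c12, ?_, ?_, pw 132 3 hv.r3, pw 5 4 hv.r4⟩
  · rw [sw, show S.s * v * S.s⁻¹ * (S.s * v * S.s⁻¹) = S.s * (v * v) * S.s⁻¹ by group, hv.sq, mul_one,
      mul_inv_cancel]
  · rw [sw, isConj_conj]; exact hv.conj
  · rw [mul_inv_rev, mul_inv_rev, si,
      show S.s * v * S.s * S.s * (S.s * (v⁻¹ * S.s)) = S.s * v * (S.s * S.s) * S.s * v⁻¹ * S.s by group, ss,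
      mul_one, show S.s * v * S.s * v⁻¹ * S.s = S.s * (v * S.s * v⁻¹) * S.s by group, hv.vs, ← mul_assoc, ss,
      one_mul, cs]
  · calc S.s * v * S.s * S.f 72 * (S.s * v * S.s) = S.s * v * (S.s * S.f 72 * S.s) * v * S.s := by group
      _ = S.s * (v * S.f 72 * v) * S.s := by rw [cs, mul_assoc (S.f 72), ss, mul_one]; group
      _ = S.f 72 * S.f 1 := by
        rw [hv.v23, ← S.fmul, cs, mul_assoc, ss, mul_one]

theorem exists_glue (h : S.Two) : ∃ z : ℕ → G, (∀ g, g < 4 → z g = S.f (gL g)) ∧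
    ∀ r ∈ Pres.rels, wordVal z r = 1 := by
  obtain ⟨v, hv⟩ := exists_side h
  obtain ⟨v', hv'⟩ := exists_side h.diag
  obtain ⟨di, dz, d60, d132, d1, d5, d180, d72⟩ := bDiag_facts
  have hd1 : v' * S.f 1 = S.f 1 * v' := by simpa [TabSetup.precomp, d1] using hv'.c2
  have hd132 : v' * S.f 132 = S.f 132 * v' := by simpa [TabSetup.precomp, d60] using hv'.c1
  have hd72 : v' * S.f 72 = S.f 72 * v' := by simpa [TabSetup.precomp, d180] using hv'.c12
  have hds : v' * S.s * v'⁻¹ = S.s * S.f 72 := by simpa [TabSetup.precomp, d180] using hv'.vs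
  have hd180 : v' * S.f 180 * v' = S.f 180 * S.f 1 := by simpa [TabSetup.precomp, d72, d1] using hv'.v23
  have hdr3 : (S.f 60 * v') ^ 3 = 1 := by simpa [TabSetup.precomp, d132] using hv'.r3
  have hdr4 : (S.f 5 * v') ^ 4 = 1 := by simpa [TabSetup.precomp, d5] using hv'.r4
  have hd2 : v' * v' = 1 := hv'.sq
  obtain ⟨w, hw, hvw⟩ : ∃ w, S.Side w ∧ v' * w * (v' * w) = 1 := by
    rcases step h hv hd1 hd2 hv'.conj hd72 hds hd180 with e | e
    · exact ⟨v, hv, e⟩
    refine ⟨_, hv.conj_s, ?_⟩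
    have hvi : v⁻¹ = v := inv_eq_of_mul_eq_one_left hv.sq
    have hsv : S.s * v * S.s = S.f 180 * v := by
      have e' : v * S.s = S.s * S.f 180 * v := by rw [← hv.vs, inv_mul_cancel_right]
      rw [mul_assoc, e', ← mul_assoc, ← mul_assoc, S.s_sq, one_mul]
    have e1 : v' * S.f 180 = S.f 180 * S.f 1 * v' := by
      rw [← hd180, mul_assoc _ v', hd2, mul_one]
    have h1 : S.f 1 * S.f 1 = 1 := by rw [← S.fmul, ← S.fone]; exact congrArg S.f (by decide +kernel)
    have h180 : S.f 180 * S.f 180 = 1 := by rw [← S.fmul, ← S.fone]; exact congrArg S.f (by decide +kernel)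
    have c : S.f 180 * S.f 1 = S.f 1 * S.f 180 := S.cm_iff.2 (by decide +kernel)
    rw [hsv]
    calc v' * (S.f 180 * v) * (v' * (S.f 180 * v))
        = (v' * S.f 180) * v * ((v' * S.f 180) * v) := by group
      _ = S.f 180 * S.f 1 * v' * v * (S.f 180 * S.f 1 * v' * v) := by rw [e1]
      _ = S.f 180 * S.f 1 * v' * (v * S.f 180) * S.f 1 * v' * v := by group
      _ = S.f 180 * S.f 1 * (v' * S.f 180) * (v * S.f 1) * v' * v := by rw [hv.c12]; group
      _ = S.f 180 * S.f 1 * (S.f 180 * S.f 1) * (v' * S.f 1) * v * v' * v := by rw [e1, hv.c2]; group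
      _ = (S.f 180 * S.f 1) * (S.f 180 * S.f 1) * S.f 1 * (v' * v * (v' * v)) := by rw [hd1]; group
      _ = 1 := by
        rw [e, mul_assoc _ (S.f 1) (S.f 1), h1, mul_one]
        nth_rw 2 [c]
        rw [mul_assoc, ← mul_assoc (S.f 1), h1, one_mul, h180]
  let z : ℕ → G := fun n => [S.f 60, S.f 1, S.f 132, S.f 5, v', w].getD n 1
  refine ⟨z, fun g hg => ?_, ?_⟩
  · interval_cases g <;> rfl
  have hL : ∀ r : List ℕ, (r.all fun g => Nat.blt g 4) = true → wordVal z r = S.f (evalL r) := by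
    intro r
    induction r with
    | nil => intro _; exact S.fone.symm
    | cons g r ih =>
      intro hr
      simp only [List.all_cons, Bool.and_eq_true, Nat.blt_eq] at hr
      rw [wordVal, ih hr.2, evalL, S.fmul, gen, if_neg (by unfold eps; omega)]
      congr 1
      have := hr.1
      interval_cases g <;> rfl
  have hone : ∀ r : List ℕ, (r.all fun g => Nat.blt g 4) = true → evalL r = 0 → wordVal z r = 1 :=
    fun r h1 h2 => by rw [hL r h1, h2, S.fone]
  have pair : ∀ a b : G, a * a = 1 → b * b = 1 → a * b = b * a → a * b * a * b = 1 := fun a b ha hb e => by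
    rw [e, mul_assoc b, ha, mul_one, hb]
  have p3 : ∀ a b : G, (b * a) ^ 3 = 1 → a * b * a * b * a * b = 1 := fun a b e => by
    rw [show a * b * a * b * a * b = a * (b * a) ^ 3 * a⁻¹ by rw [pow_succ, pow_two]; group, e]; group
  have p4 : ∀ a b : G, (b * a) ^ 4 = 1 → a * b * a * b * a * b * a * b = 1 := fun a b e => by
    rw [show a * b * a * b * a * b * a * b = a * (b * a) ^ 4 * a⁻¹ by
      rw [pow_succ, pow_succ, pow_two]; group, e]; group
  have sq : ∀ i : Fin 192, bMul i i = 0 → S.f i * S.f i = 1 := fun i hi => by rw [← S.fmul, hi, S.fone]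
  have z0 : gen z 0 = S.f 60 := rfl
  have z1 : gen z 1 = S.f 1 := rfl
  have z2 : gen z 2 = S.f 132 := rfl
  have z3 : gen z 3 = S.f 5 := rfl
  have z4 : gen z 4 = v' := rfl
  have z5 : gen z 5 = w := rfl
  simp only [Pres.rels, List.forall_mem_cons, List.not_mem_nil, IsEmpty.forall_iff, implies_true, and_true]
  refine ⟨hone _ rfl (by decide +kernel), hone _ rfl (by decide +kernel), hone _ rfl (by decide +kernel),
    hone _ rfl (by decide +kernel), ?_, ?_, hone _ rfl (by decide +kernel), hone _ rfl (by decide +kernel),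
    hone _ rfl (by decide +kernel), ?_, ?_, hone _ rfl (by decide +kernel), hone _ rfl (by decide +kernel), ?_, ?_,
    hone _ rfl (by decide +kernel), ?_, ?_, ?_, ?_, ?_, hone _ rfl (by decide +kernel),
    hone _ rfl (by decide +kernel), ?_, ?_⟩ <;>
    simp only [wordVal, z0, z1, z2, z3, z4, z5, one_mul]
  · exact hd2
  · exact hw.sq
  · exact p3 _ _ hdr3
  · exact pair _ _ hw.sq (sq 60 (by decide +kernel)) hw.c1
  · exact pair _ _ hd2 (sq 1 (by decide +kernel)) hd1
  · exact pair _ _ hw.sq (sq 1 (by decide +kernel)) hw.c2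
  · exact pair _ _ hd2 (sq 132 (by decide +kernel)) hd132
  · exact p3 _ _ hw.r3
  · exact p4 _ _ hdr4
  · exact p4 _ _ hw.r4
  · rw [show w * v' * w * v' = w * (v' * w * (v' * w)) * w⁻¹ by group, hvw]; group
  · have e : S.f 1 * S.f 132 * S.f 1 * S.f 132 * S.f 1 * w * S.f 132 * S.f 1 * S.f 132 * S.f 1 * w =
        S.f (evalL [1, 2, 1, 2, 1]) * (w * S.f (evalL [1, 2, 1, 2]) * w) := by
      rw [← hL [1, 2, 1, 2, 1] rfl, ← hL [1, 2, 1, 2] rfl]
      simp only [wordVal, z1, z2, one_mul]; group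
    rw [e, show evalL [1, 2, 1, 2] = 72 by decide +kernel, hw.v23, ← S.fmul, ← S.fmul, ← S.fone]
    exact congrArg S.f (by decide +kernel)
  · have e : S.f 60 * S.f 1 * S.f 60 * S.f 1 * S.f 1 * v' * S.f 1 * S.f 60 * S.f 1 * S.f 60 * v' =
        S.f (evalL [1, 1, 0, 1, 0]) * (v' * S.f (evalL [0, 1, 0, 1]) * v') := by
      rw [← hL [1, 1, 0, 1, 0] rfl, ← hL [0, 1, 0, 1] rfl]
      simp only [wordVal, z0, z1, one_mul]; group
    rw [e, show evalL [0, 1, 0, 1] = 180 by decide +kernel, hd180, ← S.fmul, ← S.fmul, ← S.fone]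
    exact congrArg S.f (by decide +kernel)

theorem exists_emb (h : S.Two) : Nonempty (Emb G) := by
  obtain ⟨z, hz, hrel⟩ := exists_glue h
  obtain ⟨hom, hhom⟩ := WordPres.exists_hom (k := 6) (R := Pres.rels) (by decide) (by decide +kernel) z hrel
  obtain ⟨φ, hφb, hφ⟩ := Pres.exists_equiv
  let φe := MulEquiv.ofBijective φ hφb
  let ψ : A8 →* G := hom.comp φe.symm.toMonoidHom
  have hgen : ∀ g < 6, ψ (Pres.img8 g) = z g := by
    intro g hg
    show hom (φe.symm (Pres.img8 g)) = z g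
    rw [← hφ g hg, show φ (Pres.xgen g) = φe (Pres.xgen g) from rfl, MulEquiv.symm_apply_apply]
    exact hhom g hg
  have hword : ∀ r : List ℕ, (r.all fun g => Nat.blt g 4) = true → ψ (wordVal Pres.img8 r) = S.f (evalL r) := by
    intro r
    induction r with
    | nil => intro _; rw [wordVal, map_one, evalL, S.fone]
    | cons g r ih =>
      intro hr
      simp only [List.all_cons, Bool.and_eq_true, Nat.blt_eq] at hr
      rw [wordVal, map_mul, ih hr.2, evalL, S.fmul, gen, if_neg (by unfold eps; omega), hgen g (by omega),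
        hz g hr.1]
  obtain ⟨iz, iw, cw, is, is2, isfree⟩ := glue_imgs
  have hz8 : ψ z8 = S.f 60 := by rw [← iz, hgen 0 (by norm_num), hz 0 (by norm_num)]; rfl
  have hs : ψ (wordVal Pres.img8 [0, 1, 0, 1, 2, 0, 1, 0, 1, 2]) = S.s := by rw [hword _ rfl, is, S.f_z]
  obtain ⟨k, hk⟩ := isConj_iff.1 (conj_z_of_free is2 isfree)
  have hall : ∀ n (i : Fin 192), bDep i < n → S.f i ∈ ψ.range := by
    intro n
    induction n with
    | zero => intro i hi; omega
    | succ n ih =>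
      intro i hi
      rcases bDep_step i with rfl | ⟨x, hx, hlt⟩
      · rw [S.fone]; exact one_mem _
      have hsq : ∀ x ∈ [(60 : Fin 192), 1, 132, 5], bMul x x = 0 ∧ ∃ g : Fin 4, gL g = x := by decide +kernel
      obtain ⟨hx2, g, rfl⟩ := hsq x hx
      have e : S.f i = S.f (bMul i (gL g)) * S.f (gL g) := by
        rw [S.fmul, mul_assoc, ← S.fmul (gL g), hx2, S.fone, mul_one]
      rw [e]
      exact mul_mem (ih _ (by omega)) (show S.f (gL g) ∈ ψ.range from ⟨Pres.img8 g, by rw [hgen g (by omega), hz g g.2]⟩)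
  have hker : Function.Injective ψ := by
    have : IsSimpleGroup A8 := alternatingGroup.isSimpleGroup (by rw [Nat.card_fin]; norm_num)
    rw [← MonoidHom.ker_eq_bot_iff]
    refine ψ.normal_ker.eq_bot_or_eq_top.resolve_right fun e => ?_
    have h1 : z8 ∈ ψ.ker := by rw [e]; trivial
    rw [MonoidHom.mem_ker, hz8, ← S.fone] at h1
    exact absurd (S.inj h1) (by decide)
  refine ⟨⟨ψ, hker, fun x hx => ?_, fun e => ?_⟩⟩
  · rw [mem_centralizer_singleton_iff] at hx
    obtain ⟨i, hi⟩ := (S.mem_iff (ψ k * x * (ψ k)⁻¹)).1 (by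
      rw [← hs, ← hk, map_mul, map_mul, map_inv, conj_comm]; exact hx)
    have hm : ψ k * x * (ψ k)⁻¹ ∈ ψ.range := hi ▸ hall _ i (Nat.lt_succ_self _)
    have hkm : ψ k ∈ ψ.range := ⟨k, rfl⟩
    have := mul_mem (mul_mem (inv_mem hkm) hm) hkm
    rwa [show (ψ k)⁻¹ * (ψ k * x * (ψ k)⁻¹) * ψ k = x by group] at this
  · rw [hz8, ← iw, hword _ rfl] at e
    exact h.f6 ((S.fus_of cw (by norm_num)).2 (IsConj.trans h.f2 e))

end TabSetup

end Cfsg.Lib.AltEightNine
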