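import Cfsg.Agent.Lib.AltEightNine.Local.Fusion
import Cfsg.Agent.Lib.AltEightNine.Table.Diagram

/-!
# The transvection outside the centraliser on one side of the diagram
-/

set_option autoImplicit false
set_option maxRecDepth 100000
set_option linter.unusedSectionVars false
set_option linter.style.haveILetI false

namespace Cfsg.Lib.AltEightNine

open Subgroup

/-- The indices of the involutions fused to the centre in the alternating case. -/
def sigB (i : Fin 192) : Bool := bCls i == 1 || bCls i == 2 || bCls i == 3 || bCls i == 5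

/-- The action of the product of the two end transvections on the coordinates. -/
def wImg (c : Fin 8) : Fin 8 := ![0, 1, 6, 7, 2, 3, 4, 5] c

theorem sig_sq : ∀ i : Fin 192, bMul i i = 0 → i ≠ 0 → sigB i = true ∨ bCls i = 4 ∨ bCls i = 6 := by decide +kernel

theorem sig_ne : ∀ i : Fin 192, sigB i = true → bMul i i = 0 ∧ i ≠ 0 := by decide +kernel

theorem side_table : ∀ a : Fin 192, bMul a a = 0 → sigB a = true → bConj a 60 = 66 → bConj a 180 = 180 →
    ∀ b : Fin 192, bMul b b = 0 → sigB b = true → bConj b 60 = 120 → bConj b 180 = 180 → bCm a b = true →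
      sigB (bMul a b) = true →
      ∃ v : Fin 192, bMul v v = 0 ∧ sigB v = true ∧ bCm v a = true ∧ bConj v 60 = 60 ∧ bConj v 180 = 186 ∧
        bMul (bMul v b) v = bMul b a := by decide +kernel

theorem no_eight : ∀ i : Fin 192, bPow i 8 = 0 → bPow i 4 = 0 := by decide +kernel

theorem side_consts : sigB 1 = true ∧ sigB 72 = true ∧ sigB (bMul 1 72) = true ∧ bCm 1 72 = true ∧
    bCm 1 180 = true ∧ bCm 72 180 = true ∧ bConj 1 60 = 120 ∧ bConj 1 bZ = bZ ∧ bConj 72 60 = 66 ∧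
    bMul 1 1 = 0 ∧ bMul 72 72 = 0 ∧ eL 2 = 180 ∧ eL 5 = 66 ∧ eL 3 = 120 ∧ eL 6 = 186 := by decide +kernel

universe u

namespace TabSetup

variable {G : Type u} [Group G] [Finite G]

/-- The fusion of the alternating case. -/
structure Two (S : TabSetup G) : Prop where
  f2 : S.Fus 2
  f3 : S.Fus 3
  f4 : ¬ S.Fus 4
  f5 : S.Fus 5
  f6 : ¬ S.Fus 6

theorem Two.sig_iff {S : TabSetup G} (h : S.Two) {i : Fin 192} (h2 : bMul i i = 0) (h0 : i ≠ 0) :
    sigB i = true ↔ IsConj S.s (S.f i) := by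
  by_cases hz : i = bZ
  · subst hz
    exact ⟨fun _ => by rw [S.f_z], fun _ => by decide +kernel⟩
  constructor
  · intro hs
    simp only [sigB, Bool.or_eq_true, beq_iff_eq] at hs
    rcases hs with ((h1 | h1) | h1) | h1
    · exact absurd ((cls_inv i (by omega)).2.2.2 h1) hz
    · exact (S.fus_of h1 (by norm_num)).1 h.f2
    · exact (S.fus_of h1 (by norm_num)).1 h.f3
    · exact (S.fus_of h1 (by norm_num)).1 h.f5
  · intro hc
    rcases sig_sq i h2 h0 with h1 | h1 | h1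
    · exact h1
    · exact absurd ((S.fus_of h1 (by norm_num)).2 hc) h.f4
    · exact absurd ((S.fus_of h1 (by norm_num)).2 hc) h.f6

theorem Two.diag {S : TabSetup G} (h : S.Two) :
    (S.precomp bDiag bDiag_facts.1 bDiag_hom bDiag_facts.2.1).Two := by
  obtain ⟨c2, c3, c4, c5, c6⟩ := bDiag_cls
  have hr : ∀ k ∈ [2, 3, 4, 5, 6], bCls (bRep k) = k := by decide +kernel
  have e := fun k l (hk : bCls (bRep k) = k) (hk0 : k ≠ 0) (hl : l ≠ 0) hc =>
    S.exists_conj_tab bDiag bDiag_facts.1 bDiag_hom bDiag_facts.2.1 (k := k) (l := l) hk hk0 hl hc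
  exact ⟨(e 2 3 (hr 2 (by simp)) (by norm_num) (by norm_num) c2).2 h.f3,
    (e 3 2 (hr 3 (by simp)) (by norm_num) (by norm_num) c3).2 h.f2,
    fun x => h.f4 ((e 4 4 (hr 4 (by simp)) (by norm_num) (by norm_num) c4).1 x),
    (e 5 5 (hr 5 (by simp)) (by norm_num) (by norm_num) c5).2 h.f5,
    fun x => h.f6 ((e 6 6 (hr 6 (by simp)) (by norm_num) (by norm_num) c6).1 x)⟩

/-- The transvection outside the centraliser with its relations. -/
structure Side (S : TabSetup G) (v : G) : Prop where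
  sq : v * v = 1
  conj : IsConj S.s v
  c1 : v * S.f 60 = S.f 60 * v
  c2 : v * S.f 1 = S.f 1 * v
  c12 : v * S.f 180 = S.f 180 * v
  vs : v * S.s * v⁻¹ = S.s * S.f 180
  v23 : v * S.f 72 * v = S.f 72 * S.f 1
  r3 : (S.f 132 * v) ^ 3 = 1
  r4 : (S.f 5 * v) ^ 4 = 1

theorem exists_side {S : TabSetup G} (h : S.Two) : ∃ v, S.Side v := by
  have hF : S.Fused2 := h.f2
  obtain ⟨n, hn, n60, n180, ns⟩ := S.exists_move hF (a := 1) (b := 4) (c := 2) (by decide +kernel)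
  rw [eL_facts.2.2.2.2] at n60
  rw [eL_facts.2.2.2.1, S.f_z] at n180
  obtain ⟨s1, s72, s172, c172, c1180, c72180, a1u, a1z, a72u, q1, q72, e2, e5, e3, e6⟩ := side_consts
  rw [e2] at ns
  have hmem : ∀ i, bCm i 180 = true → ∃ a, S.f a = n * S.f i * n⁻¹ := by
    intro i hi
    refine (S.mem_iff _).1 ?_
    rw [← n180, conj_comm]
    exact S.cm_iff.2 hi
  obtain ⟨a, ha⟩ := hmem 1 c1180
  obtain ⟨b, hb⟩ := hmem 72 c72180
  have hsq : ∀ {x : G}, x * x = 1 → n * x * n⁻¹ * (n * x * n⁻¹) = 1 := fun {x} hx => by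
    rw [show n * x * n⁻¹ * (n * x * n⁻¹) = n * (x * x) * n⁻¹ by group, hx, mul_one, mul_inv_cancel]
  have hf2 : ∀ i, bMul i i = 0 → S.f i * S.f i = 1 := fun i hi => by rw [← S.fmul, hi, S.fone]
  have ha2 : bMul a a = 0 := S.inj (by rw [S.fmul, ha, hsq (hf2 1 q1), S.fone])
  have hb2 : bMul b b = 0 := S.inj (by rw [S.fmul, hb, hsq (hf2 72 q72), S.fone])
  have hne : ∀ {i j : Fin 192}, S.f j = n * S.f i * n⁻¹ → i ≠ 0 → j ≠ 0 := fun {i j} e hi e0 => hi (S.inj (by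
    rw [e0, S.fone, eq_comm, conj_eq_one_iff] at e; rw [e, S.fone]))
  have hsig : ∀ {i j : Fin 192}, S.f j = n * S.f i * n⁻¹ → bMul j j = 0 → sigB i = true → sigB j = true := by
    intro i j e hj hi
    obtain ⟨hi2, hi0⟩ := sig_ne i hi
    rw [h.sig_iff hj (hne e hi0), e, isConj_conj]
    exact (h.sig_iff hi2 hi0).1 hi
  have hab : bCm a b = true := S.cm_iff.1 (by rw [ha, hb, conj_comm]; exact S.cm_iff.2 c172)
  have hab2 : bMul (bMul a b) (bMul a b) = 0 := S.inj (by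
    have hc := S.cm_iff.2 hab
    rw [S.fmul, S.fmul, S.fone, mul_assoc, ← mul_assoc (S.f b), ← hc, mul_assoc (S.f a) (S.f b), hf2 b hb2, mul_one,
      hf2 a ha2])
  have habsig : sigB (bMul a b) = true := hsig (i := bMul 1 72) (by rw [S.fmul, S.fmul, ha, hb]; group) hab2 s172
  have act : ∀ (i j p q p' q' : Fin 192), S.f j = n * S.f i * n⁻¹ → S.f p' = n * S.f p * n⁻¹ →
      S.f q' = n * S.f q * n⁻¹ → bConj i p = q → bConj j p' = q' := by
    intro i j p q p' q' e ep eq hq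
    refine S.inj ?_
    rw [S.fconj, e, ep, eq, ← hq, S.fconj]; group
  have m60 : S.f 60 = n * S.f 60 * n⁻¹ := n60.symm
  have mz : S.f 180 = n * S.f bZ * n⁻¹ := by rw [S.f_z]; exact ns.symm
  have m180 : S.f bZ = n * S.f 180 * n⁻¹ := by rw [n180, S.f_z]
  have a60 : bConj a 60 = 66 := act 1 a 60 120 60 66 ha m60 (by
    rw [show (120 : Fin 192) = bMul 60 180 by decide +kernel, show (66 : Fin 192) = bMul 60 bZ by decide +kernel,
      S.fmul, S.fmul]
    nth_rw 1 [m60]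
    nth_rw 1 [m180]
    group) a1u
  have a180 : bConj a 180 = 180 := act 1 a bZ bZ 180 180 ha mz mz a1z
  have b60 : bConj b 60 = 120 := act 72 b 60 66 60 120 hb m60 (by
    rw [show (120 : Fin 192) = bMul 60 180 by decide +kernel, show (66 : Fin 192) = bMul 60 bZ by decide +kernel,
      S.fmul, S.fmul]
    nth_rw 1 [m60]
    nth_rw 1 [mz]
    group) a72u
  have b180 : bConj b 180 = 180 := act 72 b bZ bZ 180 180 hb mz mz (by decide +kernel)
  obtain ⟨v₀, v2, vsig, va, v60, v180, vb⟩ := side_table a ha2 (hsig ha ha2 s1) a60 a180 b hb2 (hsig hb hb2 s72) b60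
    b180 hab habsig
  set v := n⁻¹ * S.f v₀ * n with hv
  have back : ∀ {x y : G}, S.f v₀ * x * (S.f v₀)⁻¹ = y → v * (n⁻¹ * x * n) * v⁻¹ = n⁻¹ * y * n := fun {x y} e => by
    rw [← e, hv]; group
  have hv2 : v * v = 1 := by
    rw [hv, show n⁻¹ * S.f v₀ * n * (n⁻¹ * S.f v₀ * n) = n⁻¹ * (S.f v₀ * S.f v₀) * n by group, hf2 v₀ v2, mul_one,
      inv_mul_cancel]
  have hvi : v⁻¹ = v := inv_eq_of_mul_eq_one_left hv2
  have pre : ∀ {i j : Fin 192}, S.f j = n * S.f i * n⁻¹ → n⁻¹ * S.f j * n = S.f i := fun {i j} e => by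
    rw [e]; group
  have vu1 : v * S.f 60 * v⁻¹ = S.f 60 := by
    have := back (show S.f v₀ * S.f 60 * (S.f v₀)⁻¹ = S.f 60 by rw [← S.fconj, v60])
    rwa [pre m60] at this
  have vu12' : v * S.s * v⁻¹ = S.s * S.f 180 := by
    have := back (show S.f v₀ * S.f 180 * (S.f v₀)⁻¹ = S.f 186 by rw [← S.fconj, v180])
    rw [pre mz, S.f_z, show (186 : Fin 192) = bMul 180 bZ by decide +kernel, S.fmul,
      show n⁻¹ * (S.f 180 * S.f bZ) * n = (n⁻¹ * S.f 180 * n) * (n⁻¹ * S.f bZ * n) by group, pre mz, pre m180,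
      S.f_z] at this
    exact this
  have vu12 : v * S.f 180 * v⁻¹ = S.f 180 := by
    have := back (show S.f v₀ * S.f bZ * (S.f v₀)⁻¹ = S.f bZ by rw [S.f_z, S.comm_s, mul_inv_cancel_right])
    rwa [pre m180] at this
  have vu2 : v * S.f 1 * v⁻¹ = S.f 1 := by
    have := back (show S.f v₀ * S.f a * (S.f v₀)⁻¹ = S.f a by
      rw [mul_inv_eq_iff_eq_mul]; exact S.cm_iff.2 va)
    rwa [pre ha] at this
  have vu23 : v * S.f 72 * v = S.f 72 * S.f 1 := by
    have h' : S.f v₀ * S.f b * (S.f v₀)⁻¹ = S.f b * S.f a := by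
      rw [show (S.f v₀)⁻¹ = S.f v₀ from inv_eq_of_mul_eq_one_left (hf2 v₀ v2), ← S.fmul, ← S.fmul, vb, S.fmul]
    have := back h'
    rwa [show n⁻¹ * (S.f b * S.f a) * n = (n⁻¹ * S.f b * n) * (n⁻¹ * S.f a * n) by group, pre ha, pre hb, hvi] at this
  have vconj : IsConj S.s v := by
    obtain ⟨h1, h0⟩ := sig_ne v₀ vsig
    exact ((h.sig_iff h1 h0).1 vsig).trans (isConj_iff.2 ⟨n⁻¹, by rw [hv, inv_inv]⟩)
  -- the elementary subgroup is centralised by the powers
  have cE : ∀ g : G, g * S.f 60 * g⁻¹ = S.f 60 → g * S.f 180 * g⁻¹ = S.f 180 → g * S.s * g⁻¹ = S.s →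
      g ∈ S.E2 := by
    intro g h1 h2 h3
    refine S.centralizer_E2 (mem_centralizer_iff.2 fun x hx => ?_)
    obtain ⟨c, rfl⟩ := S.E2_cases hx
    have c1 : Commute g (S.f 60) := mul_inv_eq_iff_eq_mul.1 h1
    have c2 : Commute g (S.f 180) := mul_inv_eq_iff_eq_mul.1 h2
    have c4 : Commute g (S.f bZ) := by rw [S.f_z]; exact mul_inv_eq_iff_eq_mul.1 h3
    have hc : ∀ c : Fin 8, eL c ∈ [0, 60, 180, bMul 60 180, bZ, bMul 60 bZ, bMul 180 bZ, bMul (bMul 60 180) bZ] := by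
      decide +kernel
    have hd := hc c
    simp only [List.mem_cons, List.not_mem_nil, or_false] at hd
    rcases hd with e | e | e | e | e | e | e | e <;> rw [e]
    · rw [S.fone, one_mul, mul_one]
    · exact c1.eq.symm
    · exact c2.eq.symm
    · rw [S.fmul]; exact (c1.mul_right c2).eq.symm
    · exact c4.eq.symm
    · rw [S.fmul]; exact (c1.mul_right c4).eq.symm
    · rw [S.fmul]; exact (c2.mul_right c4).eq.symm
    · rw [S.fmul, S.fmul]; exact ((c1.mul_right c2).mul_right c4).eq.symm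
  have mstep : ∀ (g a b x : G) {p q : G}, g = a * b → b * x * b⁻¹ = p → a * p * a⁻¹ = q → g * x * g⁻¹ = q := by
    intro g a b x p q hg hb ha; rw [← ha, ← hb, hg]; group
  have hprod : ∀ (g x y : G), g * (x * y) * g⁻¹ = g * x * g⁻¹ * (g * y * g⁻¹) := fun g x y => by group
  have h132 : S.f 132 * S.f 180 * (S.f 132)⁻¹ = S.f 180 * S.s ∧ S.f 132 * S.f 60 * (S.f 132)⁻¹ = S.f 60 ∧
      S.f 132 * S.s * (S.f 132)⁻¹ = S.s := by
    refine ⟨?_, ?_, ?_⟩
    · rw [← S.fconj, ← S.f_z, ← S.fmul]; exact congrArg S.f (by decide +kernel)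
    · rw [← S.fconj]; exact congrArg S.f (by decide +kernel)
    · rw [← S.f_z, ← S.fconj]; exact congrArg S.f (by decide +kernel)
  have h5 : S.f 5 * S.f 180 * (S.f 5)⁻¹ = S.f 60 * S.f 180 ∧ S.f 5 * S.f 60 * (S.f 5)⁻¹ = S.f 60 ∧
      S.f 5 * S.s * (S.f 5)⁻¹ = S.s := by
    refine ⟨?_, ?_, ?_⟩
    · rw [← S.fconj, ← S.fmul]; exact congrArg S.f (by decide +kernel)
    · rw [← S.fconj]; exact congrArg S.f (by decide +kernel)
    · rw [← S.f_z, ← S.fconj]; exact congrArg S.f (by decide +kernel)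
  have hs180 : S.f 180 * S.f 180 = 1 := hf2 180 (by decide +kernel)
  have h60 : S.f 60 * S.f 60 = 1 := hf2 60 (by decide +kernel)
  have c60180 : S.f 60 * S.f 180 = S.f 180 * S.f 60 := S.cm_iff.2 (by decide +kernel)
  -- the relation with the end transvection
  set w := S.f 132 * v with hw
  have w1 : w * S.f 60 * w⁻¹ = S.f 60 := mstep w _ _ _ hw vu1 h132.2.1
  have w12 : w * S.f 180 * w⁻¹ = S.f 180 * S.s := mstep w _ _ _ hw vu12 h132.1
  have ws : w * S.s * w⁻¹ = S.f 180 := mstep w _ _ _ hw vu12' (by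
    rw [hprod, h132.2.2, h132.1, ← mul_assoc, ← S.comm_s 180, mul_assoc, S.s_sq, mul_one])
  have hw3 : w ^ 3 ∈ S.E2 := by
    refine cE _ ?_ ?_ ?_
    · exact mstep _ w (w * w) _ (by rw [pow_succ', pow_two]) (mstep _ w w _ rfl w1 w1) w1
    · refine mstep _ w (w * w) _ (by rw [pow_succ', pow_two]) (mstep _ w w _ rfl w12 (q := S.s) ?_) ws
      rw [hprod, w12, ws, S.comm_s 180, mul_assoc, hs180, mul_one]
    · refine mstep _ w (w * w) _ (by rw [pow_succ', pow_two]) (mstep _ w w _ rfl ws w12) ?_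
      rw [hprod, w12, ws, S.comm_s 180, mul_assoc, hs180, mul_one]
  have r3 : w ^ 3 = 1 := by
    obtain ⟨c, hc⟩ := S.E2_cases hw3
    have hfix : w * S.f (eL c) * w⁻¹ = S.f (eL c) := by
      rw [hc, mul_inv_eq_iff_eq_mul, ← pow_succ', ← pow_succ]
    have himg : ∀ d : Fin 8, w * S.f (eL d) * w⁻¹ = S.f (eL (wImg d)) := by
      have hl : eL 0 = 0 ∧ eL 1 = 60 ∧ eL 2 = 180 ∧ eL 3 = bMul 60 180 ∧ eL 4 = bZ ∧ eL 5 = bMul 60 bZ ∧
          eL 6 = bMul 180 bZ ∧ eL 7 = bMul (bMul 60 180) bZ := by decide +kernel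
      obtain ⟨l0, l1, l2, l3, l4, l5, l6, l7⟩ := hl
      intro d
      fin_cases d
      · show w * S.f (eL 0) * w⁻¹ = S.f (eL 0)
        rw [l0, S.fone, mul_one, mul_inv_cancel]
      · show w * S.f (eL 1) * w⁻¹ = S.f (eL 1)
        rw [l1, w1]
      · show w * S.f (eL 2) * w⁻¹ = S.f (eL 6)
        rw [l2, l6, w12, S.fmul, S.f_z]
      · show w * S.f (eL 3) * w⁻¹ = S.f (eL 7)
        rw [l3, l7, S.fmul, hprod, w1, w12, S.fmul, S.fmul, S.f_z, mul_assoc]
      · show w * S.f (eL 4) * w⁻¹ = S.f (eL 2)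
        rw [l4, l2, S.f_z, ws]
      · show w * S.f (eL 5) * w⁻¹ = S.f (eL 3)
        rw [l5, l3, S.fmul, S.f_z, hprod, w1, ws, S.fmul]
      · show w * S.f (eL 6) * w⁻¹ = S.f (eL 4)
        rw [l6, l4, S.fmul, S.f_z, hprod, w12, ws, S.comm_s 180, mul_assoc, hs180, mul_one]
      · show w * S.f (eL 7) * w⁻¹ = S.f (eL 5)
        rw [l7, l5, S.fmul, S.fmul, S.f_z, hprod, hprod, w1, w12, ws, S.fmul, S.f_z, mul_assoc (S.f 60),
          S.comm_s 180, mul_assoc S.s, hs180, mul_one]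
    have hc' : c = 0 ∨ c = 1 := by
      have hfixed : ∀ d : Fin 8, wImg d = d → d = 0 ∨ d = 1 := by decide +kernel
      exact hfixed c (eL_facts.2.2.1 _ _ (S.inj ((himg c).symm.trans hfix)))
    rcases hc' with rfl | rfl
    · rw [← hc, show eL 0 = 0 from rfl, S.fone]
    exfalso
    rw [eL_facts.2.2.2.2] at hc
    have hu3 : S.f 132 * S.f 132 = 1 := hf2 132 (by decide +kernel)
    have e : w ^ 2 * v * (w ^ 2)⁻¹ = S.f 132 * S.f 60 := by
      have hwi : w⁻¹ = v * S.f 132 := by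
        rw [hw, mul_inv_rev, hvi, inv_eq_of_mul_eq_one_left hu3]
      have hvw : v * w⁻¹ = S.f 132 := by rw [hwi, ← mul_assoc, hv2, one_mul]
      calc w ^ 2 * v * (w ^ 2)⁻¹ = w * (w * (v * w⁻¹)) * w⁻¹ := by rw [pow_two]; group
        _ = w * (w * S.f 132) * w⁻¹ := by rw [hvw]
        _ = w * (w * (S.f 132 * (v * S.f 132))) := by rw [hwi]; group
        _ = w * w * w * S.f 132 := by rw [hw]; group
        _ = S.f 60 * S.f 132 := by rw [hc, pow_succ, pow_two]
        _ = S.f 132 * S.f 60 := by rw [← S.fmul, ← S.fmul]; exact congrArg S.f (by decide +kernel)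
    have hconj : IsConj S.s (S.f (bMul 132 60)) := by
      rw [S.fmul, ← e]; exact (isConj_conj).2 vconj
    have h4 : bCls (bMul 132 60) = 4 := by decide +kernel
    exact h.f4 ((S.fus_of h4 (by norm_num)).2 hconj)
  -- the relation with the middle transvection
  set y := S.f 5 * v with hy
  have y1 : y * S.f 60 * y⁻¹ = S.f 60 := mstep y _ _ _ hy vu1 h5.2.1
  have y12 : y * S.f 180 * y⁻¹ = S.f 60 * S.f 180 := mstep y _ _ _ hy vu12 h5.1
  have ys : y * S.s * y⁻¹ = S.s * (S.f 60 * S.f 180) := mstep y _ _ _ hy vu12' (by rw [hprod, h5.1, h5.2.2])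
  have y2_12 : y ^ 2 * S.f 180 * (y ^ 2)⁻¹ = S.f 180 :=
    mstep _ y y _ (pow_two y) y12 (by rw [hprod, y1, y12, ← mul_assoc, h60, one_mul])
  have y2_s : y ^ 2 * S.s * (y ^ 2)⁻¹ = S.s * S.f 60 := mstep _ y y _ (pow_two y) ys (by
    rw [hprod, hprod, y1, y12, ys, ← mul_assoc (S.f 60) (S.f 60), h60, one_mul, mul_assoc, mul_assoc, hs180, mul_one])
  have y2_1 : y ^ 2 * S.f 60 * (y ^ 2)⁻¹ = S.f 60 := mstep _ y y _ (pow_two y) y1 y1
  have hy4 : y ^ 4 ∈ S.E2 := by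
    have e : y ^ 4 = y ^ 2 * y ^ 2 := by rw [← pow_add]
    refine cE _ (mstep _ _ _ _ e y2_1 y2_1) (mstep _ _ _ _ e y2_12 y2_12) (mstep _ _ _ _ e y2_s ?_)
    rw [hprod, y2_1, y2_s, mul_assoc, h60, mul_one]
  have r4 : y ^ 4 = 1 := by
    obtain ⟨c, hc⟩ := S.E2_cases hy4
    have h8 : y ^ 8 = 1 := by
      rw [show (8 : ℕ) = 4 + 4 from rfl, pow_add, ← hc, hf2 _ ((inE_facts 2 (by decide)).2.2.2.1 _ (eL_facts.1 c))]
    obtain ⟨m, -, hms⟩ := S.trans_E2 hF (i := 60) (by decide +kernel) (by decide +kernel)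
    have hym : m⁻¹ * y * m * S.s = S.s * (m⁻¹ * y * m) := by
      have hy60 := mul_inv_eq_iff_eq_mul.1 y1
      rw [← hms] at hy60
      calc m⁻¹ * y * m * S.s = m⁻¹ * (y * (m * S.s * m⁻¹)) * m := by group
        _ = m⁻¹ * ((m * S.s * m⁻¹) * y) * m := by rw [hy60]
        _ = _ := by group
    obtain ⟨i, hi⟩ := (S.mem_iff _).1 hym
    have hp : ∀ k, S.f (bPow i k) = m⁻¹ * y ^ k * m := fun k => by
      rw [S.fpow, hi, show m⁻¹ * y * m = m⁻¹ * y * m⁻¹⁻¹ by group, conj_pow, inv_inv]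
    have h4 := no_eight i (S.inj (by rw [hp, h8, mul_one, inv_mul_cancel, S.fone]))
    have := hp 4
    rw [h4, S.fone] at this
    calc y ^ 4 = m * (m⁻¹ * y ^ 4 * m) * m⁻¹ := by group
      _ = 1 := by rw [← this]; group
  exact ⟨v, hv2, vconj, mul_inv_eq_iff_eq_mul.1 vu1, mul_inv_eq_iff_eq_mul.1 vu2, mul_inv_eq_iff_eq_mul.1 vu12,
    vu12', vu23, r3, r4⟩

end TabSetup

end Cfsg.Lib.AltEightNine
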